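import Mathlib
import Cfsg.Agent.Lib.Helper22.C3L.Defs

set_option autoImplicit false
set_option linter.unusedVariables false
set_option linter.unusedSectionVars false

/-!
# Project C3S (leader helper8) -> S5664 : `Sp_{2m/r}(q^r).r` is maximal in `Sp_{2m}(q)` (`r` prime, all `q`)

Abstract setting (the same as in project C3L, whose `Defs` are imported: `Kl`, `kmul`, `NotNorm`, `MovesOut`):
`V` a vector space over the field `K`, `K` a finite extension of `F`, `B` a non-degenerate alternating `K`-bilinear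
form on `V`, `f = Tr_{K/F} ∘ B`; the groups live in `V ≃ₗ[F] V`.
-/

namespace Cfsg.Agent.Lib.helper8.C3S

open Module

variable {F K V : Type*} [Field F] [Field K] [Algebra F K] [AddCommGroup V] [Module F V] [Module K V]
  [IsScalarTower F K V]

variable (F) in
/-- the `K`-linear isometries of `B`, a subgroup of `GL_F(V)` -/
def SpB (B : V →ₗ[K] V →ₗ[K] K) : Subgroup (V ≃ₗ[F] V) where
  carrier := {g | (∀ (a : K) (x : V), g (a • x) = a • g x) ∧ ∀ x y : V, B (g x) (g y) = B x y}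
  mul_mem' := by
    rintro g h ⟨hg, hg1⟩ ⟨hh, hh1⟩
    refine ⟨fun a x => ?_, fun x y => ?_⟩
    · rw [LinearEquiv.mul_apply, LinearEquiv.mul_apply, hh, hg]
    · rw [LinearEquiv.mul_apply, LinearEquiv.mul_apply, hg1, hh1]
  one_mem' := ⟨fun a x => rfl, fun x y => rfl⟩
  inv_mem' := by
    rintro g ⟨hg, hg1⟩
    refine ⟨fun a x => ?_, fun x y => ?_⟩
    · apply g.injective
      rw [hg]
      simp
    · rw [← hg1]
      simp

theorem mem_SpB {B : V →ₗ[K] V →ₗ[K] K} {g : V ≃ₗ[F] V} :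
    g ∈ SpB F B ↔ (∀ (a : K) (x : V), g (a • x) = a • g x) ∧ ∀ x y : V, B (g x) (g y) = B x y := Iff.rfl

variable (F) in
/-- the `F`-linear isometries of `f = Tr ∘ B` -/
def Spf (B : V →ₗ[K] V →ₗ[K] K) : Subgroup (V ≃ₗ[F] V) where
  carrier := {g | ∀ x y : V, Algebra.trace F K (B (g x) (g y)) = Algebra.trace F K (B x y)}
  mul_mem' := by
    rintro g h hg hh x y
    rw [LinearEquiv.mul_apply, LinearEquiv.mul_apply, hg, hh]
  one_mem' := fun x y => rfl
  inv_mem' := by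
    rintro g hg x y
    rw [← hg]
    simp

theorem mem_Spf {B : V →ₗ[K] V →ₗ[K] K} {g : V ≃ₗ[F] V} :
    g ∈ Spf F B ↔ ∀ x y : V, Algebra.trace F K (B (g x) (g y)) = Algebra.trace F K (B x y) := Iff.rfl

theorem SpB_le_Spf (B : V →ₗ[K] V →ₗ[K] K) : SpB F B ≤ Spf F B := by
  intro g hg x y
  rw [hg.2]

/-- `H` contains the `F`-transvection `x ↦ x + c f(x, z) z` (`f = Tr ∘ B`) -/
def HasFtv (B : V →ₗ[K] V →ₗ[K] K) (H : Subgroup (V ≃ₗ[F] V)) (z : V) (c : F) : Prop :=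
  ∃ g ∈ H, ∀ x : V, g x = x + (c * Algebra.trace F K (B x z)) • z

/-- `H` contains all the `F`-transvections of `f = Tr ∘ B` -/
def AllFtv (B : V →ₗ[K] V →ₗ[K] K) (H : Subgroup (V ≃ₗ[F] V)) : Prop :=
  ∀ (z : V) (c : F), HasFtv B H z c

/-- the "Jordan part" of `H` at `v`: the `β ∈ End_F(K)` with `x ↦ x + β (B x v) • v` in `H` -/
def LS (B : V →ₗ[K] V →ₗ[K] K) (H : Subgroup (V ≃ₗ[F] V)) (v : V) : Set (K →ₗ[F] K) :=
  {β | ∃ g ∈ H, ∀ x : V, g x = x + β (B x v) • v}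

/-- `α'` is the adjoint of `α` for the trace form of `K / F` -/
def TrAdj (α α' : K →ₗ[F] K) : Prop :=
  ∀ s t : K, Algebra.trace F K (α s * t) = Algebra.trace F K (s * α' t)

variable (F K) in
/-- the trace of `K / F` as an `F`-endomorphism of `K` -/
noncomputable def trK : K →ₗ[F] K := Algebra.linearMap F K ∘ₗ Algebra.trace F K

@[simp] theorem trK_apply (s : K) : trK F K s = algebraMap F K (Algebra.trace F K s) := rfl

/-- `a` is a coefficient family of `γ` in `End_F(K) = ⊕_σ K σ` -/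
def Coef [FiniteDimensional F K] (γ : K →ₗ[F] K) (a : (K ≃ₐ[F] K) → K) : Prop :=
  ∀ x : K, γ x = ∑ σ : K ≃ₐ[F] K, a σ * σ x

/-- `a σ + (a σ)^*`, the symmetrisation of `a σ` : `x ↦ a σ(x) + σ⁻¹(a x)` -/
def symz (σ : K ≃ₐ[F] K) (a : K) : K →ₗ[F] K :=
  LinearMap.mulLeft F a ∘ₗ σ.toLinearMap + σ.symm.toLinearMap ∘ₗ LinearMap.mulLeft F a

@[simp] theorem symz_apply (σ : K ≃ₐ[F] K) (a x : K) : symz σ a x = a * σ x + σ.symm (a * x) := rfl

end Cfsg.Agent.Lib.helper8.C3S
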