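import Mathlib
import Cfsg.Agent.Lib.Helper22.C3L.Defs
import Cfsg.Agent.Lib.helper8.C3S.Defs
import Cfsg.Agent.Lib.Helper24.C3SKTV
import Cfsg.Agent.Lib.helper8.C3SSTEPAG
import Cfsg.Agent.Lib.Helper18.C3SLS0
import Cfsg.Agent.Lib.Helper18.C3SLS1
import Cfsg.Agent.Lib.helper4.C3SLS23core
import Cfsg.Agent.Lib.Helper11.C3SLS4
import Cfsg.Agent.Lib.Helper11.C3SALPHA
import Cfsg.Agent.Lib.Helper11.C3SUORB
import Cfsg.Agent.Lib.Helper11.C3STRANS
import Cfsg.Agent.Lib.Helper20.C3SBORBG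
import Cfsg.Agent.Lib.Helper20.C3SSTEPBG
import Cfsg.Agent.Lib.Helper27.C3SJOR
import Cfsg.Agent.Lib.helper2.C3SSPREAD
import Cfsg.Agent.Lib.Helper18.C3SR22
import Cfsg.Agent.Lib.Helper22.C3SSTRICT

set_option autoImplicit false
set_option linter.unusedVariables false
set_option linter.unusedSectionVars false
set_option linter.style.haveILetI false

/-!
# Project C3S (S5664) : the abstract main theorem, assembled from the landed rows
-/

namespace Cfsg.Agent.Lib.helper8.C3S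

open Module Cfsg.Agent.Lib.Helper22.C3L

variable {F K V : Type*} [Field F] [Field K] [Algebra F K] [AddCommGroup V] [Module F V] [Module K V]
  [IsScalarTower F K V]

/-- LS2 (from helper4's core and KTV) -/
theorem c3smain_ls_mul (B : V →ₗ[K] V →ₗ[K] K) (hB0 : ∀ x, B x x = 0) (H : Subgroup (V ≃ₗ[F] V))
    (hC : SpB F B ≤ H) (v : V) (c : K) : LinearMap.mulLeft F c ∈ LS B H v :=
  c3sls23_mul_core B H hC v c (ktv_mem B hB0 v c)

/-- LS3 (from helper4's core and TRANS) -/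
theorem c3smain_ls_conjK (B : V →ₗ[K] V →ₗ[K] K) (hB0 : ∀ x, B x x = 0) (hBn : ∀ x, x ≠ 0 → ∃ y, B x y ≠ 0)
    (H : Subgroup (V ≃ₗ[F] V)) (hC : SpB F B ≤ H) {v : V} (hv : v ≠ 0) (k : K) {β : K →ₗ[F] K}
    (hβ : β ∈ LS B H v) : LinearMap.mulLeft F k ∘ₗ β ∘ₗ LinearMap.mulLeft F k ∈ LS B H v := by
  by_cases hk : k = 0
  · have h0 : LinearMap.mulLeft F k ∘ₗ β ∘ₗ LinearMap.mulLeft F k = 0 := by
      apply LinearMap.ext
      intro x
      simp [hk]
    rw [h0]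
    exact ls_zero B H v
  · have hkv : k • v ≠ 0 := smul_ne_zero hk hv
    exact c3sls23_conjK_core B H hC k (spb_trans B hB0 hBn hv hkv) hβ

/-- `LS B H v` as an additive subgroup -/
def LSgrp (B : V →ₗ[K] V →ₗ[K] K) (hB0 : ∀ x, B x x = 0) (H : Subgroup (V ≃ₗ[F] V)) (v : V) :
    AddSubgroup (K →ₗ[F] K) where
  carrier := LS B H v
  zero_mem' := ls_zero B H v
  add_mem' := fun ha hb => ls_add B hB0 H v ha hb
  neg_mem' := fun ha => ls_neg B hB0 H v ha

/-- Step C' : from the output of Step B to the `F`-transvection at `v`. -/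
theorem stepC' [Finite K] [FiniteDimensional K V] (hr : (finrank F K).Prime)
    (B : V →ₗ[K] V →ₗ[K] K) (hB0 : ∀ x, B x x = 0) (hBn : ∀ x, x ≠ 0 → ∃ y, B x y ≠ 0)
    (H : Subgroup (V ≃ₗ[F] V)) (hC : SpB F B ≤ H) (hH : H ≤ Spf F B) {g : V ≃ₗ[F] V} (hg : g ∈ H) {v : V}
    (hv : v ≠ 0) (hgv : ∀ a : K, ∃ b : K, g (a • v) = b • v)
    (hgn : ∃ a : K, ∀ b : K, ∃ c : K, g (a • c • v) ≠ b • g (c • v)) : HasFtv B H v 1 := by
  haveI : FiniteDimensional F K := Module.Finite.of_finite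
  obtain ⟨α, α', hgα, hadj⟩ := alpha_ex (F := F) hv hgv
  have hαn := alpha_not hgα hgn
  have key : trK F K ∈ LSgrp B hB0 H v :=
    jor hr (LSgrp B hB0 H v) (fun c => c3smain_ls_mul B hB0 H hC v c)
      (fun β hβ => ls_selfadj B hB0 hBn H hH hv hβ)
      (fun β hβ k => c3smain_ls_conjK B hB0 hBn H hC hv k hβ) hadj
      (fun β hβ => ls_conjG B H hH hg hgα hadj hβ) hαn
  exact ls_trace B H v key

/-- **Theorem T'** (abstract form): a group between `Sp(V, B)` (`K`-linear isometries) and `Sp(V, Tr ∘ B)` which does not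
normalise `K` contains all `F`-transvections of `Tr ∘ B`. -/
theorem main_abs [Finite K] [FiniteDimensional K V] (hr : (finrank F K).Prime) (hm : 2 ≤ finrank K V)
    (h22 : Nat.card F = 2 → finrank F K = 2 → 3 ≤ finrank K V)
    (B : V →ₗ[K] V →ₗ[K] K) (hB0 : ∀ x, B x x = 0) (hBn : ∀ x, x ≠ 0 → ∃ y, B x y ≠ 0)
    (H : Subgroup (V ≃ₗ[F] V)) (hC : SpB F B ≤ H) (hH : H ≤ Spf F B) (hN : NotNorm K H) : AllFtv B H := by
  haveI : FiniteDimensional F K := Module.Finite.of_finite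
  have hA : MovesOut K H :=
    stepA_gen hr hm (SpB F B) (fun g hg => hg.1) (fun v w hv hw => spb_trans B hB0 hBn hv hw) H hC hN
  have hT : ∃ v : V, v ≠ 0 ∧ HasFtv B H v 1 := by
    by_cases hq : Nat.card F = 2 ∧ finrank F K = 2
    · exact r22 hq.1 hq.2 (h22 hq.1 hq.2) B hB0 hBn H hC hH hA
    · obtain ⟨g, hg, v, hv, hgv, hgn⟩ := stepB_gen hr hm hq H
        (fun {v h} hh hne {x x'} hx hx2 hx' hx'2 =>
          b_orbit_gen (SpB F B) (fun {v y z} hy hz => sp_u_orb B hB0 hBn hy hz) H hC hh hne hx hx2 hx' hx'2) hA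
      exact ⟨v, hv, stepC' hr B hB0 hBn H hC hH hg hv hgv hgn⟩
  obtain ⟨v, hv, h1⟩ := hT
  exact ftv_spread B hB0 hBn H hC hv h1

end Cfsg.Agent.Lib.helper8.C3S
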