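import Mathlib
import Cfsg.Prelude.Def_GeometricClasses
import Cfsg.Agent.S5646
import Cfsg.Agent.Lib.helper6.Symp
import Cfsg.Agent.Lib.Helper20.C3DESC
import Cfsg.Agent.Lib.Helper22.C3L.Defs
import Cfsg.Agent.Lib.helper8.C3S.Defs
import Cfsg.Agent.Lib.helper8.C3S.MainAbs

set_option autoImplicit false
set_option linter.unusedVariables false
set_option linter.unusedSectionVars false
set_option linter.style.haveILetI false

/-! # Project C3S : transfer between `GL (Fin m ⊕ Fin m) F` and the abstract setting, and the final statement -/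

namespace Cfsg.Agent.Lib.helper8.C3S

open Cfsg Cfsg.Geo Module Cfsg.Agent.Lib.Helper22.C3L
open scoped MatrixGroups Matrix

variable {F : Type*} [Field F] {m : ℕ}

/-- `GL_2m(F)` as the group of linear automorphisms of `F^2m` -/
noncomputable def glS (m : ℕ) (F : Type*) [Field F] :
    GL (Fin m ⊕ Fin m) F ≃* ((Fin m ⊕ Fin m → F) ≃ₗ[F] (Fin m ⊕ Fin m → F)) :=
  Matrix.GeneralLinearGroup.toLin.trans (LinearMap.GeneralLinearGroup.generalLinearEquiv F (Fin m ⊕ Fin m → F))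

theorem glS_apply (g : GL (Fin m ⊕ Fin m) F) (x : Fin m ⊕ Fin m → F) :
    glS m F g x = (g : Matrix (Fin m ⊕ Fin m) (Fin m ⊕ Fin m) F) *ᵥ x := rfl

theorem glS_symm_mulVec (g : (Fin m ⊕ Fin m → F) ≃ₗ[F] (Fin m ⊕ Fin m → F)) (x : Fin m ⊕ Fin m → F) :
    (((glS m F).symm g : GL (Fin m ⊕ Fin m) F) : Matrix (Fin m ⊕ Fin m) (Fin m ⊕ Fin m) F) *ᵥ x = g x := by
  rw [← glS_apply, MulEquiv.apply_symm_apply]

theorem glS_inv_mulVec (g : (Fin m ⊕ Fin m → F) ≃ₗ[F] (Fin m ⊕ Fin m → F)) (x : Fin m ⊕ Fin m → F) :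
    ((((glS m F).symm g)⁻¹ : GL (Fin m ⊕ Fin m) F) : Matrix (Fin m ⊕ Fin m) (Fin m ⊕ Fin m) F) *ᵥ x =
      g.symm x := by
  rw [← map_inv, glS_symm_mulVec]
  rfl

/-- a copy of the subalgebra `K` that carries only the instances we put on it -/
def KS (K : Subalgebra F (Matrix (Fin m ⊕ Fin m) (Fin m ⊕ Fin m) F)) : Type _ := ↥K

/-- the underlying matrix -/
def KS.mat {K : Subalgebra F (Matrix (Fin m ⊕ Fin m) (Fin m ⊕ Fin m) F)} (k : KS K) :
    Matrix (Fin m ⊕ Fin m) (Fin m ⊕ Fin m) F :=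
  ((show ↥K from k) : Matrix (Fin m ⊕ Fin m) (Fin m ⊕ Fin m) F)

theorem c3str_mul_mul_mulVec (A B C : Matrix (Fin m ⊕ Fin m) (Fin m ⊕ Fin m) F) (x : Fin m ⊕ Fin m → F) :
    (A * B * C) *ᵥ x = A *ᵥ (B *ᵥ (C *ᵥ x)) := by
  rw [← Matrix.mulVec_mulVec, ← Matrix.mulVec_mulVec]

theorem c3str_mat_ext {A B : Matrix (Fin m ⊕ Fin m) (Fin m ⊕ Fin m) F} (h : ∀ x, A *ᵥ x = B *ᵥ x) : A = B := by
  apply Matrix.toLin'.injective
  apply LinearMap.ext
  intro x
  exact h x

theorem c3str_inv_mulVec (g : GL (Fin m ⊕ Fin m) F) (x : Fin m ⊕ Fin m → F) :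
    ((g⁻¹ : GL (Fin m ⊕ Fin m) F) : Matrix (Fin m ⊕ Fin m) (Fin m ⊕ Fin m) F) *ᵥ
      ((g : Matrix (Fin m ⊕ Fin m) (Fin m ⊕ Fin m) F) *ᵥ x) = x := by
  rw [Matrix.mulVec_mulVec, ← Units.val_mul, inv_mul_cancel, Units.val_one, Matrix.one_mulVec]

theorem c3str_mulVec_inv (g : GL (Fin m ⊕ Fin m) F) (x : Fin m ⊕ Fin m → F) :
    (g : Matrix (Fin m ⊕ Fin m) (Fin m ⊕ Fin m) F) *ᵥ
      (((g⁻¹ : GL (Fin m ⊕ Fin m) F) : Matrix (Fin m ⊕ Fin m) (Fin m ⊕ Fin m) F) *ᵥ x) = x := by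
  rw [Matrix.mulVec_mulVec, ← Units.val_mul, mul_inv_cancel, Units.val_one, Matrix.one_mulVec]

/-- a field subalgebra is a field -/
theorem c3str_isField {b : ℕ} (K : Subalgebra F (Matrix (Fin m ⊕ Fin m) (Fin m ⊕ Fin m) F))
    (hK : IsFieldSubalgebra b K) (hb : 0 < b) : IsField K where
  exists_pair_ne := by
    have h1 : 0 < Module.finrank F K := by rw [hK.finrank_eq]; exact hb
    haveI : Nontrivial K := Module.nontrivial_of_finrank_pos (R := F) h1
    exact ⟨0, 1, zero_ne_one⟩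
  mul_comm := fun x y => Subtype.ext (hK.comm x x.2 y y.2)
  mul_inv_cancel := by
    intro a ha
    obtain ⟨y, hy, h⟩ := hK.inv a a.2 (by intro h0; exact ha (Subtype.ext h0))
    exact ⟨⟨y, hy⟩, Subtype.ext h⟩

/-- the symplectic form as a bilinear map -/
noncomputable def sympBil (m : ℕ) (F : Type*) [Field F] :
    (Fin m ⊕ Fin m → F) →ₗ[F] (Fin m ⊕ Fin m → F) →ₗ[F] F :=
  LinearMap.mk₂ F (Cfsg.sympForm m F)
    (fun u u' v => Cfsg.Agent.Lib.helper6.sympForm_add_left m u u' v)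
    (fun c u v => by rw [Cfsg.Agent.Lib.helper6.sympForm_smul_left, smul_eq_mul])
    (fun u v v' => Cfsg.Agent.Lib.helper6.sympForm_add_right m u v v')
    (fun c u v => by rw [Cfsg.Agent.Lib.helper6.sympForm_smul_right, smul_eq_mul])

theorem sympBil_apply (u v : Fin m ⊕ Fin m → F) : sympBil m F u v = Cfsg.sympForm m F u v := rfl

/-- abstract: the dimension facts -/
theorem c3str_dims {F K V : Type*} [Field F] [Field K] [Algebra F K] [AddCommGroup V] [Module F V] [Module K V]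
    [IsScalarTower F K V] [FiniteDimensional F K] [FiniteDimensional K V] {r m : ℕ} (hr : r.Prime) (hm : 7 ≤ m)
    (h1 : finrank F K = r) (h2 : finrank F V = 2 * m) :
    2 ≤ finrank K V ∧ (finrank F K = 2 → 3 ≤ finrank K V) := by
  have h3 := Module.finrank_mul_finrank F K V
  rw [h1, h2] at h3
  constructor
  · by_contra hcon
    have h4 : finrank K V ≤ 1 := by omega
    interval_cases h : finrank K V
    · omega
    · rw [mul_one] at h3
      rw [h3] at hr
      have := (Nat.prime_mul_iff.mp hr)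
      omega
  · intro h2'
    rw [h1] at h2'
    rw [h2'] at h3
    omega

/-- the two facts about `N(K) ∩ Sp` that the final statement needs -/
theorem c3str_all [Fintype F] (hm : 7 ≤ m) {r : ℕ} (hr : r.Prime)
    (K : Subalgebra F (Matrix (Fin m ⊕ Fin m) (Fin m ⊕ Fin m) F))
    (hK : IsFieldSubalgebra r K) (hsa : IsSelfAdjointFor (Cfsg.sympForm m F) K)
    (halt : ∀ k ∈ K, ∀ v : (Fin m ⊕ Fin m → F), Cfsg.sympForm m F (Matrix.mulVec k v) v = 0) :
    (∀ H : Subgroup (GL (Fin m ⊕ Fin m) F), subalgebraNormalizer K ⊓ Cfsg.spGL m F ≤ H → H ≤ Cfsg.spGL m F →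
        ¬ H ≤ subalgebraNormalizer K → Cfsg.spGL m F ≤ H) ∧
      (∃ g : GL (Fin m ⊕ Fin m) F, g ∈ Cfsg.spGL m F ∧ g ∉ subalgebraNormalizer K) := by
  classical
  obtain ⟨fK, hmat_mul, hmat_add, hmat_one, hmat_zero⟩ : ∃ fK : Field (KS K),
      (∀ a b : KS K, (a * b).mat = a.mat * b.mat) ∧ (∀ a b : KS K, (a + b).mat = a.mat + b.mat) ∧
      (1 : KS K).mat = 1 ∧ (0 : KS K).mat = 0 :=
    ⟨(c3str_isField K hK hr.pos).toField, fun _ _ => rfl, fun _ _ => rfl, rfl, rfl⟩
  have hmat_mem : ∀ a : KS K, a.mat ∈ K := fun a => (show ↥K from a).2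
  have hmat_inj : ∀ a b : KS K, a.mat = b.mat → a = b := fun a b h => Subtype.ext h
  have hmat_surj : ∀ k ∈ K, ∃ a : KS K, a.mat = k := fun k hk => ⟨(show KS K from (⟨k, hk⟩ : ↥K)), rfl⟩
  let i : F →+* KS K :=
    { toFun := fun c => (show KS K from (algebraMap F ↥K c))
      map_one' := hmat_inj _ _ (by rw [hmat_one]; exact congrArg Subtype.val (map_one (algebraMap F ↥K)))
      map_mul' := fun a b => hmat_inj _ _ (by
        rw [hmat_mul]; exact congrArg Subtype.val (map_mul (algebraMap F ↥K) a b))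
      map_zero' := hmat_inj _ _ (by rw [hmat_zero]; exact congrArg Subtype.val (map_zero (algebraMap F ↥K)))
      map_add' := fun a b => hmat_inj _ _ (by
        rw [hmat_add]; exact congrArg Subtype.val (map_add (algebraMap F ↥K) a b)) }
  letI aK : Algebra F (KS K) := RingHom.toAlgebra i
  have hi : ∀ c : F, (i c).mat = c • (1 : Matrix (Fin m ⊕ Fin m) (Fin m ⊕ Fin m) F) := fun c => by
    show ((algebraMap F ↥K c : ↥K) : Matrix (Fin m ⊕ Fin m) (Fin m ⊕ Fin m) F) = _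
    rw [Subalgebra.coe_algebraMap, Algebra.algebraMap_eq_smul_one]
  let ρ : KS K →+* Module.End F (Fin m ⊕ Fin m → F) :=
    { toFun := fun k => Matrix.toLin' k.mat
      map_one' := by rw [hmat_one, Matrix.toLin'_one]; rfl
      map_mul' := fun a b => by rw [hmat_mul, Matrix.toLin'_mul]; rfl
      map_zero' := by rw [hmat_zero, map_zero]
      map_add' := fun a b => by rw [hmat_add, map_add] }
  letI mK : Module (KS K) (Fin m ⊕ Fin m → F) := Module.compHom (Fin m ⊕ Fin m → F) ρ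
  have hsm : ∀ (k : KS K) (x : Fin m ⊕ Fin m → F), k • x = k.mat *ᵥ x := fun _ _ => rfl
  haveI : IsScalarTower F (KS K) (Fin m ⊕ Fin m → F) := ⟨fun c k x => by
    rw [hsm, hsm, Algebra.smul_def, hmat_mul]
    show ((i c).mat * k.mat) *ᵥ x = _
    rw [hi, Matrix.smul_mul, Matrix.one_mul, Matrix.smul_mulVec]⟩
  haveI : Finite (KS K) := (inferInstance : Finite ↥K)
  haveI : FiniteDimensional (KS K) (Fin m ⊕ Fin m → F) := Module.Finite.of_finite
  haveI : FiniteDimensional F (KS K) := Module.Finite.of_finite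
  have hfr : finrank F (KS K) = r := by
    rw [← hK.finrank_eq]
    let e : KS K ≃ₗ[F] ↥K :=
      { toFun := fun k => (show ↥K from k)
        invFun := fun k => (show KS K from k)
        left_inv := fun _ => rfl
        right_inv := fun _ => rfl
        map_add' := fun a b => Subtype.ext (hmat_add a b)
        map_smul' := fun c k => by
          apply Subtype.ext
          show (c • k).mat = c • k.mat
          rw [Algebra.smul_def, hmat_mul]
          show (i c).mat * k.mat = _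
          rw [hi, Matrix.smul_mul, Matrix.one_mul] }
    exact e.finrank_eq
  have hfV : finrank F (Fin m ⊕ Fin m → F) = 2 * m := by
    rw [Module.finrank_fintype_fun_eq_card, Fintype.card_sum, Fintype.card_fin]
    omega
  obtain ⟨hm2, hm3⟩ := c3str_dims (F := F) (K := KS K) (V := Fin m ⊕ Fin m → F) hr hm hfr hfV
  have hrK : (finrank F (KS K)).Prime := by rw [hfr]; exact hr
  -- the `K`-bilinear form
  have hsa' : ∀ (k : KS K) (x y : Fin m ⊕ Fin m → F), sympBil m F (k • x) y = sympBil m F x (k • y) := by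
    intro k x y
    rw [sympBil_apply, sympBil_apply, hsm, hsm]
    exact hsa k.mat (hmat_mem k) x y
  obtain ⟨B, hB1, hB2, -, -, hB5, -, hB7⟩ :=
    Cfsg.Agent.Lib.Helper20.C3Desc.c3desc_exists_finite (K := KS K) (sympBil m F) hsa'
  have hB0 : ∀ x, B x x = 0 := hB5 (fun k x => by
    rw [sympBil_apply, hsm]
    exact halt k.mat (hmat_mem k) x)
  have hBn : ∀ x, x ≠ 0 → ∃ y, B x y ≠ 0 := hB7 (fun x hx => by
    obtain ⟨y, hy⟩ := Cfsg.Agent.Lib.helper6.sympForm_nondeg m x hx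
    exact ⟨y, by rw [sympBil_apply]; exact hy⟩)
  have hBf : ∀ x y, Algebra.trace F (KS K) (B x y) = Cfsg.sympForm m F x y := fun x y => by
    rw [← hB1, sympBil_apply]
  -- `K`-linear maps normalise `K`
  have hlin_mem : ∀ g : (Fin m ⊕ Fin m → F) ≃ₗ[F] (Fin m ⊕ Fin m → F),
      (∀ (a : KS K) (x : Fin m ⊕ Fin m → F), g (a • x) = a • g x) →
      (glS m F).symm g ∈ subalgebraNormalizer K := by
    intro g hσ
    have hσ' : ∀ (b : KS K) (y : Fin m ⊕ Fin m → F), g.symm (b • y) = b • g.symm y := by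
      intro b y
      apply g.injective
      rw [hσ, LinearEquiv.apply_symm_apply, LinearEquiv.apply_symm_apply]
    have h1 : ∀ a : KS K, ((glS m F).symm g : Matrix (Fin m ⊕ Fin m) (Fin m ⊕ Fin m) F) * a.mat *
        ((((glS m F).symm g)⁻¹ : GL (Fin m ⊕ Fin m) F) : Matrix (Fin m ⊕ Fin m) (Fin m ⊕ Fin m) F) = a.mat := by
      intro a
      apply c3str_mat_ext
      intro x
      rw [c3str_mul_mul_mulVec, glS_inv_mulVec, glS_symm_mulVec, ← hsm, hσ, LinearEquiv.apply_symm_apply, hsm]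
    have h2 : ∀ b : KS K,
        ((((glS m F).symm g)⁻¹ : GL (Fin m ⊕ Fin m) F) : Matrix (Fin m ⊕ Fin m) (Fin m ⊕ Fin m) F) * b.mat *
        ((glS m F).symm g : Matrix (Fin m ⊕ Fin m) (Fin m ⊕ Fin m) F) = b.mat := by
      intro b
      apply c3str_mat_ext
      intro x
      rw [c3str_mul_mul_mulVec, glS_inv_mulVec, glS_symm_mulVec, ← hsm, hσ', LinearEquiv.symm_apply_apply, hsm]
    intro k
    constructor
    · intro hk
      obtain ⟨a, rfl⟩ := hmat_surj k hk
      rw [h1]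
      exact hmat_mem _
    · intro hk
      obtain ⟨b, hb⟩ := hmat_surj _ hk
      have h4 : k = b.mat := by
        rw [← h2 b, hb]
        simp only [← mul_assoc, ← Units.val_mul, inv_mul_cancel, Units.val_one, one_mul]
        rw [mul_assoc, ← Units.val_mul, inv_mul_cancel, Units.val_one, mul_one]
      rw [h4]
      exact hmat_mem _
  -- elements of `N(K)` are semilinear
  have hmem_semi : ∀ g ∈ subalgebraNormalizer K, ∃ σ : KS K → KS K, ∀ (a : KS K) (x : Fin m ⊕ Fin m → F),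
      glS m F g (a • x) = σ a • glS m F g x := by
    intro g hg
    have h1 : ∀ a : KS K, ∃ b : KS K, b.mat = (g : Matrix (Fin m ⊕ Fin m) (Fin m ⊕ Fin m) F) * a.mat *
        ((g⁻¹ : GL (Fin m ⊕ Fin m) F) : Matrix (Fin m ⊕ Fin m) (Fin m ⊕ Fin m) F) :=
      fun a => hmat_surj _ ((hg a.mat).mp (hmat_mem a))
    choose σ hσ using h1
    refine ⟨σ, fun a x => ?_⟩
    rw [glS_apply, glS_apply, hsm, hsm, hσ, c3str_mul_mul_mulVec, c3str_inv_mulVec]
  refine ⟨?_, ?_⟩
  · -- the main statement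
    intro H hNH hHS hHN
    let H' : Subgroup ((Fin m ⊕ Fin m → F) ≃ₗ[F] (Fin m ⊕ Fin m → F)) := H.map (glS m F).toMonoidHom
    have hH' : ∀ g : (Fin m ⊕ Fin m → F) ≃ₗ[F] (Fin m ⊕ Fin m → F), g ∈ H' ↔ (glS m F).symm g ∈ H := by
      intro g
      constructor
      · rintro ⟨h, hh, rfl⟩
        show (glS m F).symm (glS m F h) ∈ H
        rw [MulEquiv.symm_apply_apply]
        exact hh
      · intro h
        exact ⟨_, h, MulEquiv.apply_symm_apply _ _⟩
    have hC : SpB F B ≤ H' := by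
      intro g hg
      rw [hH']
      apply hNH
      refine ⟨hlin_mem g hg.1, ?_⟩
      show (glS m F).symm g ∈ Cfsg.spGL m F
      rw [Cfsg.Agent.S5646.mem_spGL_iff]
      intro u v
      rw [glS_symm_mulVec, glS_symm_mulVec, ← hBf, ← hBf, hg.2]
    have hHf : H' ≤ Spf F B := by
      rintro g ⟨h, hh, rfl⟩ x y
      have := (Cfsg.Agent.S5646.mem_spGL_iff h).mp (hHS hh) x y
      rw [hBf, hBf]
      exact this
    have hN : NotNorm (KS K) H' := by
      have key : ∀ h ∈ H, ∀ a : KS K, (h : Matrix (Fin m ⊕ Fin m) (Fin m ⊕ Fin m) F) * a.mat *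
          ((h⁻¹ : GL (Fin m ⊕ Fin m) F) : Matrix (Fin m ⊕ Fin m) (Fin m ⊕ Fin m) F) ∉ K →
          NotNorm (KS K) H' := by
        intro h hh a hna
        refine ⟨glS m F h, ⟨h, hh, rfl⟩, a, fun b => ?_⟩
        by_contra hcon
        push Not at hcon
        apply hna
        have : (h : Matrix (Fin m ⊕ Fin m) (Fin m ⊕ Fin m) F) * a.mat *
            ((h⁻¹ : GL (Fin m ⊕ Fin m) F) : Matrix (Fin m ⊕ Fin m) (Fin m ⊕ Fin m) F) = b.mat := by
          apply c3str_mat_ext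
          intro x
          have h5 := hcon (((h⁻¹ : GL (Fin m ⊕ Fin m) F) : Matrix (Fin m ⊕ Fin m) (Fin m ⊕ Fin m) F) *ᵥ x)
          rw [glS_apply, glS_apply, hsm, hsm, c3str_mulVec_inv] at h5
          rw [c3str_mul_mul_mulVec, h5]
        rw [this]
        exact hmat_mem _
      rw [SetLike.not_le_iff_exists] at hHN
      obtain ⟨h, hh, hhN⟩ := hHN
      have : ¬ ∀ k : Matrix (Fin m ⊕ Fin m) (Fin m ⊕ Fin m) F, k ∈ K ↔
          (h : Matrix (Fin m ⊕ Fin m) (Fin m ⊕ Fin m) F) * k *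
          ((h⁻¹ : GL (Fin m ⊕ Fin m) F) : Matrix (Fin m ⊕ Fin m) (Fin m ⊕ Fin m) F) ∈ K := hhN
      push Not at this
      obtain ⟨k, hk⟩ := this
      rcases hk with ⟨hk1, hk2⟩ | ⟨hk1, hk2⟩
      · obtain ⟨a, rfl⟩ := hmat_surj k hk1
        exact key h hh a hk2
      · obtain ⟨a, ha⟩ := hmat_surj _ hk2
        refine key h⁻¹ (H.inv_mem hh) a ?_
        rw [ha, inv_inv]
        have : ((h⁻¹ : GL (Fin m ⊕ Fin m) F) : Matrix (Fin m ⊕ Fin m) (Fin m ⊕ Fin m) F) *
            ((h : Matrix (Fin m ⊕ Fin m) (Fin m ⊕ Fin m) F) * k *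
            ((h⁻¹ : GL (Fin m ⊕ Fin m) F) : Matrix (Fin m ⊕ Fin m) (Fin m ⊕ Fin m) F)) *
            (h : Matrix (Fin m ⊕ Fin m) (Fin m ⊕ Fin m) F) = k := by
          simp only [← mul_assoc, ← Units.val_mul, inv_mul_cancel, Units.val_one, one_mul]
          rw [mul_assoc, ← Units.val_mul, inv_mul_cancel, Units.val_one, mul_one]
        rw [this]
        exact hk1
    have hall : AllFtv B H' := main_abs hrK hm2 (fun _ h2 => hm3 h2) B hB0 hBn H' hC hHf hN
    apply Cfsg.Agent.S5646.sp_gen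
    intro v c g hg
    obtain ⟨g', hg'H, hg'⟩ := hall v c
    rw [hH'] at hg'H
    have : (glS m F).symm g' = g := by
      apply Cfsg.Agent.S5646.glx
      intro x
      rw [glS_symm_mulVec, hg', Cfsg.Agent.S5646.ts_apply g v c hg, hBf]
    rw [← this]
    exact hg'H
  · -- strictness
    obtain ⟨v, hv⟩ : ∃ v : Fin m ⊕ Fin m → F, v ≠ 0 := by
      haveI : Nontrivial (Fin m ⊕ Fin m → F) := Module.nontrivial_of_finrank_pos (R := F) (by omega)
      exact exists_ne 0
    obtain ⟨g, hg, hgS⟩ := Cfsg.Agent.S5646.tsGL (m := m) (F := F) v 1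
    refine ⟨g, hgS, fun hmem => ?_⟩
    obtain ⟨σ, hσ⟩ := hmem_semi g hmem
    refine sp_strict (F := F) hrK.two_le B hB0 hBn hv (g := glS m F g) (fun x => ?_) ⟨σ, hσ⟩
    rw [glS_apply, Cfsg.Agent.S5646.ts_apply g v 1 hg, one_mul, hBf]

/-- **S5664** -/
theorem c3s_s5664 {F : Type*} [Field F] [Fintype F] (m : ℕ) (hm : 7 ≤ m) (r : ℕ) (hr : r.Prime)
    (K : Subalgebra F (Matrix (Fin m ⊕ Fin m) (Fin m ⊕ Fin m) F)) (hK : Cfsg.Geo.IsFieldSubalgebra r K)
    (hsa : Cfsg.Geo.IsSelfAdjointFor (Cfsg.sympForm m F) K)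
    (halt : ∀ k ∈ K, ∀ v : (Fin m ⊕ Fin m → F), Cfsg.sympForm m F (Matrix.mulVec k v) v = 0) :
    Cfsg.Geo.IsMaximalIn (Cfsg.spGL m F) (Cfsg.Geo.subalgebraNormalizer K ⊓ Cfsg.spGL m F) := by
  obtain ⟨hmain, g₀, hg₀S, hg₀N⟩ := c3str_all hm hr K hK hsa halt
  refine ⟨?_, ?_⟩
  · refine lt_of_le_of_ne inf_le_right ?_
    intro heq
    apply hg₀N
    have : g₀ ∈ subalgebraNormalizer K ⊓ Cfsg.spGL m F := by rw [heq]; exact hg₀S
    exact this.1
  · intro M hNM hMS
    by_cases hMN : M ≤ subalgebraNormalizer K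
    · left
      exact le_antisymm (le_inf hMN hMS) hNM
    · right
      exact le_antisymm hMS (hmain M hNM hMS hMN)

end Cfsg.Agent.Lib.helper8.C3S
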